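import Mathlib

/-!
# Automorphisms of the graph of a class of 3-transpositions

`TG D n k l` : numbers of a class `D` of 3-transpositions of rank 3;
`TG.sq` : an automorphism `σ` such that each `d ∈ D` commutes with `σ d` has `σ (σ d) = d` (`k - 1 - l > l`,
`n - 1 - k > k`).
-/

set_option autoImplicit false

namespace Cfsg.Agent.H700.FiRow

variable {G : Type*} [Group G]

/-- The numbers of a class of 3-transpositions of rank 3. -/
structure TG (D : Set G) (n k l : ℕ) : Prop where
  sq : ∀ a ∈ D, a * a = 1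
  conj : ∀ g : G, ∀ a ∈ D, g * a * g⁻¹ ∈ D
  three : ∀ a ∈ D, ∀ b ∈ D, Commute a b ∨ a * b * a = b * a * b
  n0 : D.ncard = n
  n1 : ∀ a ∈ D, {c | c ∈ D ∧ c ≠ a ∧ Commute c a}.ncard = k
  n2 : ∀ a ∈ D, ∀ b ∈ D, a ≠ b → Commute a b →
    {c | c ∈ D ∧ c ≠ a ∧ c ≠ b ∧ Commute c a ∧ Commute c b}.ncard = l
  transN : ∀ a ∈ D, ∀ b ∈ D, ∀ b' ∈ D, ¬ Commute a b → ¬ Commute a b' →
    ∃ g : G, g * a * g⁻¹ = a ∧ g * b * g⁻¹ = b'

namespace TG

variable {D : Set G} {n k l : ℕ}

theorem inv (h : TG D n k l) {a : G} (ha : a ∈ D) : a⁻¹ = a := inv_eq_of_mul_eq_one_left (h.sq a ha)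

theorem mem (h : TG D n k l) {a b : G} (ha : a ∈ D) (hb : b ∈ D) : a * b * a ∈ D := by
  have := h.conj a b hb
  rwa [h.inv ha] at this

/-- `b = a (a b a) a`, the third element. -/
theorem third (h : TG D n k l) {a b : G} (ha : a ∈ D) (hb : b ∈ D) (hab : ¬ Commute a b) :
    b * (a * b * a) * b = a := by
  have h1 := (h.three a ha b hb).resolve_left hab
  have hbb := h.sq b hb
  rw [h1]
  calc b * (b * a * b) * b = (b * b) * a * (b * b) := by group
    _ = a := by rw [hbb, one_mul, mul_one]

theorem order (h : TG D n k l) {a b : G} (ha : a ∈ D) (hb : b ∈ D) (hab : ¬ Commute a b) :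
    orderOf (a * b) = 3 := by
  have h1 := (h.three a ha b hb).resolve_left hab
  have hbb := h.sq b hb
  have := Fact.mk Nat.prime_three
  apply orderOf_eq_prime
  · have : (a * b) ^ 3 = (a * b * a) * (b * a * b) := by rw [pow_three]; group
    rw [this, ← h1]
    calc a * b * a * (a * b * a) = a * b * (a * a) * b * a := by group
      _ = a * (b * b) * a := by rw [h.sq a ha, mul_one]; group
      _ = 1 := by rw [hbb, mul_one, h.sq a ha]
  · intro h2
    apply hab
    have h3 : b = a := by
      have := eq_inv_of_mul_eq_one_right h2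
      rw [this, h.inv ha]
    rw [h3]

/-- Claim A -/
theorem claimA (h : TG D n k l) {σ : G ≃* G} (hσ : ∀ d ∈ D, σ d ∈ D) (hc : ∀ d ∈ D, Commute (σ d) d) {d e : G}
    (hd : d ∈ D) (he : e ∈ D) (h1 : Commute e (σ d)) (h2 : ¬ Commute e d) : Commute (σ e) d := by
  have hdd := hc d hd
  have hee := hc e he
  -- the third element
  have hf := h.mem hd he
  have h2' : ¬ Commute d e := fun h' => h2 h'.symm
  have hff := hc _ hf
  have e1 : σ (d * e * d) = σ d * σ e * σ d := by rw [map_mul, map_mul]
  have hdf : Commute (σ d) (d * e * d) := (hdd.mul_right h1.symm).mul_right hdd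
  have e2 : σ e = σ d * σ (d * e * d) * σ d := by
    rw [e1]
    have h3 := h.sq _ (hσ d hd)
    calc σ e = (σ d * σ d) * σ e * (σ d * σ d) := by rw [h3, one_mul, mul_one]
      _ = _ := by group
  have hef : Commute (σ e) (d * e * d) := by
    rw [e2]
    exact (hdf.mul_left hff).mul_left hdf
  have e3 := h.third hd he h2'
  rw [← e3]
  exact (hee.mul_right hef).mul_right hee

/-- **Main lemma.** -/
theorem sq_eq [Finite G] (h : TG D n k l) (hl : l < k - 1 - l) (hk : k < n - 1 - k) {σ : G ≃* G}
    (hσ : ∀ d ∈ D, σ d ∈ D) (hσ' : ∀ d ∈ D, σ.symm d ∈ D) (hc : ∀ d ∈ D, Commute (σ d) d) {d : G} (hd : d ∈ D) :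
    σ (σ d) = d := by
  classical
  -- notation
  set u := σ d with hu
  set v := σ.symm d with hv
  have hud : Commute u d := hc d hd
  have hvD := hσ' d hd
  have huD := hσ d hd
  have hvd : Commute v d := by
    have := hc v hvD
    rw [hv, MulEquiv.apply_symm_apply] at this
    exact this.symm
  suffices hs : u = v by
    rw [hs, hv, MulEquiv.apply_symm_apply]
  by_contra huv
  have hne : u ≠ d := by
    intro h1
    apply huv
    rw [h1, hv, MulEquiv.eq_symm_apply]
    exact h1
  have hnev : v ≠ d := by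
    intro h1
    apply huv
    have h2 : σ d = d := by
      nth_rewrite 1 [← h1]
      rw [hv, MulEquiv.apply_symm_apply]
    rw [hu, h2, h1]
  -- the set `A`
  set A : Set G := {e | e ∈ D ∧ Commute e u ∧ ¬ Commute e d} with hA
  have hAv : ∀ e ∈ A, Commute e v := by
    intro e he
    have h1 := h.claimA hσ hc hd he.1 he.2.1 he.2.2
    have h2 := h1.map σ.symm
    rwa [MulEquiv.symm_apply_apply] at h2
  have hAne : ∀ e ∈ A, e ≠ u ∧ e ≠ v ∧ e ≠ d := by
    intro e he
    refine ⟨?_, ?_, ?_⟩
    · rintro rfl; exact he.2.2 hud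
    · rintro rfl; exact he.2.2 hvd
    · rintro rfl; exact he.2.2 (Commute.refl _)
  have hcardA : A.ncard = k - 1 - l := by
    have h1 := h.n1 u huD
    have h2 := h.n2 u huD d hd hne hud
    have h3 : {c | c ∈ D ∧ c ≠ u ∧ Commute c u} =
        A ∪ (insert d {c | c ∈ D ∧ c ≠ u ∧ c ≠ d ∧ Commute c u ∧ Commute c d}) := by
      ext c
      constructor
      · rintro ⟨a1, a2, a3⟩
        by_cases hcd : Commute c d
        · right
          by_cases hcd' : c = d
          · left; exact hcd'
          · right; exact ⟨a1, a2, hcd', a3, hcd⟩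
        · left; exact ⟨a1, a3, hcd⟩
      · rintro (a | a | a)
        · exact ⟨a.1, (hAne c a).1, a.2.1⟩
        · rw [a]; exact ⟨hd, hne.symm, hud.symm⟩
        · exact ⟨a.1, a.2.1, a.2.2.2.1⟩
    have h4 : Disjoint A (insert d {c | c ∈ D ∧ c ≠ u ∧ c ≠ d ∧ Commute c u ∧ Commute c d}) := by
      rw [Set.disjoint_left]
      rintro c hc (a | a)
      · exact (hAne c hc).2.2 a
      · exact hc.2.2 a.2.2.2.2
    have h5 : d ∉ {c | c ∈ D ∧ c ≠ u ∧ c ≠ d ∧ Commute c u ∧ Commute c d} := fun a => a.2.2.1 rfl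
    rw [h3, Set.ncard_union_eq h4 (Set.toFinite _) (Set.toFinite _), Set.ncard_insert_of_notMem h5 (Set.toFinite _), h2] at h1
    omega
  by_cases hcuv : Commute u v
  · -- commuting
    have h1 := h.n2 u huD v hvD huv hcuv
    have h2 : A ⊆ {c | c ∈ D ∧ c ≠ u ∧ c ≠ v ∧ Commute c u ∧ Commute c v} := fun e he =>
      ⟨he.1, (hAne e he).1, (hAne e he).2.1, he.2.1, hAv e he⟩
    have h3 := Set.ncard_le_ncard h2 (Set.toFinite _)
    omega
  · -- all members of `N(u)` commute with `v`
    have hall : ∀ x ∈ D, x ≠ u → Commute x u → Commute x v := by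
      intro x hx hxu hxc
      by_cases hxd : Commute x d
      swap
      · exact hAv x ⟨hx, hxc, hxd⟩
      by_contra hxv
      have hex : ∃ e ∈ A, ¬ Commute e x := by
        by_contra hcon
        push Not at hcon
        have h1 := h.n2 u huD x hx hxu.symm hxc.symm
        have h2 : A ⊆ {c | c ∈ D ∧ c ≠ u ∧ c ≠ x ∧ Commute c u ∧ Commute c x} := fun e he =>
          ⟨he.1, (hAne e he).1, (by rintro rfl; exact he.2.2 hxd), he.2.1, hcon e he⟩
        have h3 := Set.ncard_le_ncard h2 (Set.toFinite _)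
        omega
      obtain ⟨e, he, hex⟩ := hex
      have h1 : x * e * x ∈ A := by
        refine ⟨h.mem hx he.1, (hxc.mul_left he.2.1).mul_left hxc, fun h1 => he.2.2 ?_⟩
        have h2 : e = x * (x * e * x) * x := by
          have h3 := h.sq x hx
          calc e = (x * x) * e * (x * x) := by rw [h3, one_mul, mul_one]
            _ = _ := by group
        rw [h2]
        exact (hxd.mul_left h1).mul_left hxd
      have h2 := h.third hx he.1 (fun h' => hex h'.symm)
      apply hxv
      rw [← h2]
      exact ((hAv e he).mul_left (hAv _ h1)).mul_left (hAv e he)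
    -- `d` commutes with all elements not commuting with `u`
    have h1 : {c | c ∈ D ∧ ¬ Commute c u} ⊆ {c | c ∈ D ∧ c ≠ d ∧ Commute c d} := by
      rintro y ⟨hy, hyu⟩
      obtain ⟨g, hg1, hg2⟩ := h.transN u huD v hvD y hy hcuv (fun h' => hyu h'.symm)
      refine ⟨hy, ?_, ?_⟩
      · rintro rfl; exact hyu hud.symm
      · have h2 : g⁻¹ * u * g = u := by
          calc g⁻¹ * u * g = g⁻¹ * (g * u * g⁻¹) * g := by rw [hg1]
            _ = u := by group
        have h3 := hall (g⁻¹ * d * g) (by have := h.conj g⁻¹ d hd; rwa [inv_inv] at this) (by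
          intro h4
          apply hne
          have h5 : d = g * u * g⁻¹ := by rw [← h4]; group
          rw [h5, hg1]) (by
          rw [← h2]
          have h4 := hud.symm.map (MulAut.conj g⁻¹).toMonoidHom
          have e1 : ∀ t, (MulAut.conj g⁻¹).toMonoidHom t = g⁻¹ * t * g := by
            intro t
            show g⁻¹ * t * g⁻¹⁻¹ = _
            rw [inv_inv]
          rw [e1, e1] at h4
          exact h4)
        have h4 := h3.map (MulAut.conj g).toMonoidHom
        have e1 : ∀ t, (MulAut.conj g).toMonoidHom t = g * t * g⁻¹ := fun t => rfl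
        rw [e1, e1, hg2] at h4
        have e2 : g * (g⁻¹ * d * g) * g⁻¹ = d := by group
        rw [e2] at h4
        exact h4.symm
    have h2 := Set.ncard_le_ncard h1 (Set.toFinite _)
    rw [h.n1 d hd] at h2
    have h3 : D = {c | c ∈ D ∧ ¬ Commute c u} ∪ (insert u {c | c ∈ D ∧ c ≠ u ∧ Commute c u}) := by
      ext c
      constructor
      · intro hc
        by_cases h4 : Commute c u
        · right
          by_cases h5 : c = u
          · left; exact h5
          · right; exact ⟨hc, h5, h4⟩
        · left; exact ⟨hc, h4⟩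
      · rintro (a | a | a)
        · exact a.1
        · rw [a]; exact huD
        · exact a.1
    have h4 := h.n0
    have h5 : D.ncard ≤ {c | c ∈ D ∧ ¬ Commute c u}.ncard + (insert u {c | c ∈ D ∧ c ≠ u ∧ Commute c u}).ncard := by
      conv_lhs => rw [h3]
      exact Set.ncard_union_le _ _
    have h6 := Set.ncard_insert_le u {c | c ∈ D ∧ c ≠ u ∧ Commute c u}
    rw [h.n1 u huD] at h6
    omega

end TG

end Cfsg.Agent.H700.FiRow
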