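import Cfsg.Agent.H509.TwoFrame
import Cfsg.Agent.Involutions.BaerSuzuki
import Cfsg.Agent.H700.FiRow.Graph

/-!
# S3842, S4094, S4095: groups with a class of 3-transpositions, `p = 2`

`sq_ne_one` : in `Ctx 2 L x` the element `x` is no involution (Baer-Suzuki);
`false_of_aut` : no `Ctx 2 L x` if `L ≅ M`, `M` generated by a class of 3-transpositions invariant under automorphisms;
`false_of_emb` : no `Ctx 2 L x` if `G` embeds in `M` onto.
-/

set_option autoImplicit false

namespace Cfsg.Agent.H700.FiRow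

open Subgroup Cfsg
open Cfsg.Agent.H472.ComRed (cm cm_eq cm_eq' cm_eq_one map_cm)
open Cfsg.Agent.H509.TwoFrame

universe u

variable {G : Type u} [Group G] [Finite G] {L : Subgroup G} {x : G}

/-- `x` is not an involution. -/
theorem sq_ne_one (C : Ctx 2 L x) : x * x ≠ 1 := by
  intro hx
  have hp : ¬ IsPGroup 2 (normalClosure {x} : Subgroup G) := by
    intro h
    have h0 := C.eq_bot_of_normal (q := 2) normalClosure_normal h
    have h1 : x ∈ normalClosure ({x} : Set G) := subset_normalClosure rfl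
    rw [h0, mem_bot] at h1
    exact C.ne h1
  obtain ⟨h, h1, h2, h3⟩ := Cfsg.Agent.Involutions.BaerSuzuki.exists_odd_inverted x hx hp
  have hxi : x⁻¹ = x := inv_eq_of_mul_eq_one_left hx
  have e : cm x h = h ^ 2 := by
    rw [cm_eq, pow_two]
    congr 1
    rw [hxi] at h3 ⊢
    rw [h3, inv_inv]
  have h4 : orderOf (h ^ 2) ∣ orderOf h := orderOf_pow_dvd 2
  rcases C.bad h with h5 | h5
  · rw [e] at h5
    apply h1
    have h6 := orderOf_dvd_of_pow_eq_one h5
    rcases (Nat.dvd_prime Nat.prime_two).1 h6 with h7 | h7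
    · exact orderOf_eq_one_iff.1 h7
    · rw [h7] at h2
      exact absurd h2 (by decide)
  · rw [e] at h5
    exact (Nat.not_even_iff_odd.2 h2) (even_iff_two_dvd.2 (h5.trans h4))

/-- A product of two non-commuting 3-transpositions is neither trivial nor of even order. -/
theorem TG.comm_of_bad {M : Type*} [Group M] {D : Set M} {n k l : ℕ} (T : TG D n k l) {a b : M} (ha : a ∈ D)
    (hb : b ∈ D) (h : a * b = 1 ∨ 2 ∣ orderOf (a * b)) : Commute a b := by
  by_contra hab
  have h1 := T.order ha hb hab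
  rcases h with h | h
  · rw [h, orderOf_one] at h1
    omega
  · rw [h1] at h
    omega

/-- **`L` is generated by a class of 3-transpositions invariant under all automorphisms.** -/
theorem false_of_aut {M : Type*} [Group M] [Finite M] {D : Set M} {n k l : ℕ} (T : TG D n k l) (hl : l < k - 1 - l)
    (hk : k < n - 1 - k) (haut : ∀ α : M ≃* M, ∀ d ∈ D, α d ∈ D) (hgen : closure D = ⊤) (e : L ≃* M)
    (C : Ctx 2 L x) : False := by
  have hL := C.normal
  let σ₀ : MulAut L := MulAut.conjNormal x⁻¹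
  let σ : M ≃* M := (e.symm.trans σ₀).trans e
  have hσ₀ : ∀ l : L, ((σ₀ l : L) : G) = x⁻¹ * l * x := by
    intro l
    show ((MulAut.conjNormal x⁻¹ l : L) : G) = _
    rw [MulAut.conjNormal_apply, inv_inv]
  have hσ : ∀ l : L, σ (e l) = e (σ₀ l) := by
    intro l
    show e (σ₀ (e.symm (e l))) = _
    rw [MulEquiv.symm_apply_apply]
  have hc : ∀ d ∈ D, Commute (σ d) d := by
    intro d hd
    obtain ⟨l, rfl⟩ := e.surjective d
    have hd' := haut σ _ hd
    refine T.comm_of_bad hd' hd ?_
    have h1 : ((σ₀ l)⁻¹ * l : L) = ((cm x l : G)) := by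
      rw [cm_eq, ← hσ₀]
      rfl
    have h2 : σ (e l) * e l = e ((σ₀ l)⁻¹ * l) := by
      rw [map_mul, map_inv, ← hσ, T.inv hd']
    rw [h2, MulEquiv.orderOf_eq, ← Subgroup.orderOf_coe, h1]
    rcases C.bad l with h3 | h3
    · left
      rw [h3] at h1
      have h4 : (σ₀ l)⁻¹ * l = 1 := Subtype.ext h1
      rw [h4, map_one]
    · right
      exact h3
  have hfix : ∀ d ∈ D, σ (σ d) = d := fun d hd =>
    T.sq_eq hl hk (haut σ) (haut σ.symm) hc hd
  have hall : ∀ m : M, σ (σ m) = m := by
    intro m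
    have h1 : closure D ≤ MonoidHom.eqLocus ((σ.trans σ).toMonoidHom) (MonoidHom.id M) := by
      rw [closure_le]
      intro d hd
      exact hfix d hd
    rw [hgen] at h1
    exact h1 (mem_top m)
  apply sq_ne_one C
  rw [← mem_bot, ← C.cent, mem_centralizer_iff]
  intro l hl
  have h1 := hall (e ⟨l, hl⟩)
  rw [hσ, hσ] at h1
  have h2 := congrArg Subtype.val (e.injective h1)
  rw [hσ₀, hσ₀] at h2
  have h3 : x⁻¹ * (x⁻¹ * l * x) * x = l := h2
  calc l * (x * x) = x * x * (x⁻¹ * (x⁻¹ * l * x) * x) := by group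
    _ = x * x * l := by rw [h3]

/-- **`G` is a group generated by 3-transpositions with trivial center.** -/
theorem false_of_equiv {M : Type*} [Group M] [Finite M] {D : Set M} {n k l : ℕ} (T : TG D n k l) (hl : l < k - 1 - l)
    (hk : k < n - 1 - k) (hgen : closure D = ⊤) (e : G ≃* M) (C : Ctx 2 L x) : False := by
  let f : M := e x
  let σ : M ≃* M := MulAut.conj f⁻¹
  have hσ : ∀ m : M, σ m = f⁻¹ * m * f := by
    intro m
    show f⁻¹ * m * f⁻¹⁻¹ = _
    rw [inv_inv]
  have hσD : ∀ d ∈ D, σ d ∈ D := fun d hd => T.conj f⁻¹ d hd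
  have hσD' : ∀ d ∈ D, σ.symm d ∈ D := by
    intro d hd
    have : σ.symm d = f * d * f⁻¹ := by
      rw [MulEquiv.symm_apply_eq, hσ]
      group
    rw [this]
    exact T.conj f d hd
  have hc : ∀ d ∈ D, Commute (σ d) d := by
    intro d hd
    refine T.comm_of_bad (hσD d hd) hd ?_
    obtain ⟨g, rfl⟩ := e.surjective d
    have h2 : σ (e g) * e g = e (cm x g) := by
      rw [cm_eq, map_mul, map_inv, ← T.inv (hσD _ hd), hσ]
      simp only [map_mul, map_inv]
      rfl
    rw [h2, MulEquiv.orderOf_eq]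
    rcases C.bad g with h3 | h3
    · left
      rw [h3, map_one]
    · right
      exact h3
  have hfix : ∀ d ∈ D, σ (σ d) = d := fun d hd =>
    T.sq_eq hl hk hσD hσD' hc hd
  have hall : ∀ m : M, σ (σ m) = m := by
    intro m
    have h1 : closure D ≤ MonoidHom.eqLocus ((σ.trans σ).toMonoidHom) (MonoidHom.id M) := by
      rw [closure_le]
      intro d hd
      exact hfix d hd
    rw [hgen] at h1
    exact h1 (mem_top m)
  apply sq_ne_one C
  rw [← mem_bot, ← C.cent, mem_centralizer_iff]
  intro l _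
  have h1 := hall (e l)
  rw [hσ, hσ] at h1
  apply e.injective
  rw [map_mul, map_mul, map_mul, map_mul]
  show e l * (f * f) = f * f * e l
  calc e l * (f * f) = f * f * (f⁻¹ * (f⁻¹ * e l * f) * f) := by group
    _ = f * f * e l := by rw [h1]

end Cfsg.Agent.H700.FiRow
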