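import Cfsg.Agent.H700.FiRow.Gen
import Cfsg.Agent.KFacts.FiTF.FrameF
import Cfsg.Agent.LThreeFi24.Base24
import Cfsg.Agent.R08.TetBigInst

/-!
# S3842, S4094, S4095, `p = 2`: the outer row `Fi24'` (task 2272)

`exists_equiv` : `L ≅ K`, `K` of index 2 in `F`, all automorphisms of `K` induced by `F`: `G ≅ F` if `L ≠ G`;
`tg24` : the class of 3-transpositions of `Fi24`.
-/

set_option autoImplicit false

namespace Cfsg.Agent.H700.FiRow

open Subgroup Cfsg
open Cfsg.Agent.H509.TwoFrame

universe u

/-- A group `G` with a normal subgroup `L ≅ K` with trivial centralizer is `F` if `F` induces all automorphisms of `K`,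
`|F : K| = 2` and `L ≠ G`. -/
theorem exists_equiv {F : Type*} [Group F] {K : Subgroup F} (hK : K.index = 2)
    (hc : ∀ g : F, (∀ k ∈ K, g * k = k * g) → g = 1)
    (hconj : ∀ α : MulAut K, ∃ g : F, ∀ k : K, (α k : F) = g * k * g⁻¹) {G : Type*} [Group G] {L : Subgroup G}
    (hL : L.Normal) (hcent : centralizer (L : Set G) = ⊥) (e : L ≃* K) {x : G} (hx : x ∉ L) : Nonempty (G ≃* F) := by
  let α : G → MulAut K := fun g => (e.symm.trans (MulAut.conjNormal g : MulAut L)).trans e
  have hα : ∀ (g : G) (l : L), α g (e l) = e ((MulAut.conjNormal g : MulAut L) l) := by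
    intro g l
    show e ((MulAut.conjNormal g : MulAut L) (e.symm (e l))) = _
    rw [MulEquiv.symm_apply_apply]
  choose φ hφ using fun g => hconj (α g)
  have key : ∀ (g : G) (l : L), φ g * (e l : F) * (φ g)⁻¹ = (e ((MulAut.conjNormal g : MulAut L) l) : F) := by
    intro g l
    rw [← hα, hφ]
  have huniq : ∀ (a b : F), (∀ l : L, a * (e l : F) * a⁻¹ = b * (e l : F) * b⁻¹) → a = b := by
    intro a b h
    have h1 : b⁻¹ * a = 1 := by
      apply hc
      intro k hk
      obtain ⟨l, hl⟩ := e.surjective ⟨k, hk⟩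
      have h2 := h l
      rw [hl] at h2
      calc b⁻¹ * a * k = b⁻¹ * (a * k * a⁻¹) * a := by group
        _ = b⁻¹ * (b * k * b⁻¹) * a := by rw [← h2]
        _ = k * (b⁻¹ * a) := by group
    calc a = b * (b⁻¹ * a) := by group
      _ = b := by rw [h1, mul_one]
  let ψ : G →* F := MonoidHom.mk' φ (by
    intro a b
    apply huniq
    intro l
    rw [key, map_mul, MulAut.mul_apply, ← key a, ← key b]
    group)
  have hψ : ∀ g, ψ g = φ g := fun g => rfl
  have hψL : ∀ l : L, ψ l = e l := by
    intro l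
    apply huniq
    intro m
    rw [hψ, key]
    have h1 : (MulAut.conjNormal (l : G) : MulAut L) m = l * m * l⁻¹ := by
      apply Subtype.ext
      rw [MulAut.conjNormal_apply]
      rfl
    rw [h1, map_mul, map_mul, map_inv]
    rfl
  have hinj : Function.Injective ψ := by
    rw [injective_iff_map_eq_one]
    intro g hg
    rw [← mem_bot, ← hcent, mem_centralizer_iff]
    intro l hl
    have h1 := key g ⟨l, hl⟩
    rw [← hψ, hg, one_mul, inv_one, mul_one] at h1
    have h2 := congrArg Subtype.val (e.injective (Subtype.ext h1))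
    rw [MulAut.conjNormal_apply] at h2
    have h3 : l = g * l * g⁻¹ := h2
    calc l * g = g * l * g⁻¹ * g := by rw [← h3]
      _ = g * l := by group
  have hKr : K ≤ ψ.range := by
    intro k hk
    obtain ⟨l, hl⟩ := e.surjective ⟨k, hk⟩
    exact ⟨l, by rw [hψL, hl]⟩
  have hxr : ψ x ∉ K := by
    intro h
    obtain ⟨l, hl⟩ := e.surjective ⟨ψ x, h⟩
    apply hx
    have h1 : ψ l = ψ x := by rw [hψL, hl]
    rw [← hinj h1]
    exact l.2
  have htop : ψ.range = ⊤ := by
    rw [← index_eq_one]
    have h1 : ψ.range.index ∣ 2 := hK ▸ index_dvd_of_le hKr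
    rcases (Nat.dvd_prime Nat.prime_two).1 h1 with h2 | h2
    · exact h2
    · exfalso
      have h3 := relIndex_mul_index hKr
      rw [h2, hK] at h3
      have h4 : K.relIndex ψ.range = 1 := by omega
      exact hxr (relIndex_eq_one.1 h4 ⟨x, rfl⟩)
  exact ⟨MulEquiv.ofBijective ψ ⟨hinj, MonoidHom.range_eq_top.1 htop⟩⟩

/-- The class of 3-transpositions of `Fi24`. -/
theorem tg24 : TG (R08.FiTwentyFour.L) 306936 31671 3510 where
  sq _ ha := R08.FiTwentyFour.sq ha
  conj g _ ha := R08.FiTwentyFour.conj ha g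
  three _ ha _ hb := R08.FiTwentyFour.three ha hb
  n0 := R08.TetBigInst.hyp.n0
  n1 := R08.TetBigInst.hyp.n1
  n2 := R08.TetBigInst.hyp.n2
  transN _ ha _ hb _ hb' h1 h2 := LThreeFi24.Base24.noncomm_trans ha hb ha hb' h1 h2

/-- **Outer row `Fi24'`**, for elements of any order. -/
theorem fi24p {G : Type u} [Group G] [Finite G] {L : Subgroup G} (h : Spor.IsoFi24' L) {x : G} (C : Ctx 2 L x)
    (hx : x ∉ L) : False := by
  obtain ⟨e⟩ := h
  have hfin : Finite Spor.Fi24 := R08.FiTwentyFour.finite_Fi24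
  have hfr := KFacts.FiTF.frame
  have hc : ∀ g : Spor.Fi24, (∀ k ∈ commutator Spor.Fi24, g * k = k * g) → g = 1 := by
    intro g hg
    have hgK : g ∈ commutator Spor.Fi24 := by
      rcases hfr.cent g (fun r hr => hg r (hfr.EK (hfr.RE hr))) with h1 | h1
      · rw [h1]
        exact one_mem _
      · rw [h1]
        exact hfr.EK (hfr.RE hfr.zR)
    obtain ⟨l, hl⟩ := e.surjective ⟨g, hgK⟩
    have h1 : (l : G) ∈ centralizer (L : Set G) := by
      rw [mem_centralizer_iff]
      intro m hm
      have h2 : (⟨m, hm⟩ : L) * l = l * ⟨m, hm⟩ := by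
        apply e.injective
        rw [map_mul, map_mul, hl]
        apply Subtype.ext
        exact (hg _ (e ⟨m, hm⟩).2).symm
      exact congrArg Subtype.val h2
    rw [C.cent, mem_bot] at h1
    have h2 : l = 1 := Subtype.ext h1
    rw [h2, map_one] at hl
    exact (congrArg Subtype.val hl).symm
  obtain ⟨f⟩ := exists_equiv R08.FiTwentyFour.index_commutator hc KFacts.FiTF.exists_conj C.normal C.cent e hx
  exact false_of_equiv tg24 (by norm_num) (by norm_num) R08.FiTwentyFour.isThreeTranspositionClass.2.2 f C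

/-- **Outer row `Fi24'`** -/
theorem outrow_Fi24p {G : Type u} [Group G] [Finite G] {L : Subgroup G} (h : Spor.IsoFi24' L) {x : G}
    (C : Ctx 2 L x) (hx : x ∉ L) (_ : 2 ∣ orderOf x) : False := fi24p h C hx

end Cfsg.Agent.H700.FiRow
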