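import Cfsg.Agent.H700.FiRow.RowA
import Cfsg.Agent.H700.FiRow.RowB

/-!
# S3842, S4094, S4095, `p = 2`: the outer rows `Fi22`, `Fi24'` (task 2272)

`Cfsg.Agent.H700.FiRow.outrow_Fi22`, `Cfsg.Agent.H700.FiRow.outrow_Fi24p`; `fi22` holds for all `x`, also in `L`,
`fi24p` for all `x ∉ L`.
-/
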